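import Groth.Agent.Matlis.Duality
import Groth.Agent.Ega41Dim.SystemParams
import Mathlib.RingTheory.Localization.AtPrime.Basic
import Mathlib.RingTheory.Ideal.MinimalPrime.Basic

/-!
Locally nilpotent Frobenius semilinear maps on Artinian modules are nilpotent.
-/

set_option autoImplicit false

universe u

open IsLocalRing

namespace Groth.HSL

section chain

variable {R : Type u} [CommRing R] [IsNoetherianRing R] {N : Type u} [AddCommGroup N] [Module R N]
  [Module.Finite R N]

open scoped Classical in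
/-- A descending chain in a module killed by `J` is eventually stationary at a minimal prime of `J`. -/
theorem exists_smul_le {J p : Ideal R} (hp : p ∈ J.minimalPrimes) (L : ℕ → Submodule R N)
    (hL : Antitone L) (hJ : J • L 0 ≤ ⊥) :
    ∃ n, ∀ k, n ≤ k → ∃ s ∉ p, ∀ g ∈ L k, s • g ∈ L (k + 1) := by
  have : p.IsPrime := hp.1.1
  let Rp := Localization.AtPrime p
  let r : Ideal Rp := J.map (algebraMap R Rp)
  have : IsArtinianRing (Rp ⧸ r) := Groth.Ega41Dim.isArtinianRing_quotient_of_forall_isMaximal r fun q hq hle => by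
    have h1 : J ≤ q.comap (algebraMap R Rp) := Ideal.map_le_iff_le_comap.1 hle
    have h2 : q.comap (algebraMap R Rp) ≤ p := by
      intro x hx
      by_contra hxp
      exact hq.ne_top (Ideal.eq_top_of_isUnit_mem _ hx
        (IsLocalization.map_units Rp (⟨x, hxp⟩ : p.primeCompl)))
    have h3 : q.comap (algebraMap R Rp) = p :=
      le_antisymm h2 (hp.2 ⟨Ideal.IsPrime.comap _, h1⟩ h2)
    have h4 : q = maximalIdeal Rp := by
      rw [← IsLocalization.map_under p.primeCompl Rp q, Ideal.under_def, h3, Localization.AtPrime.map_eq_maximalIdeal]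
    rw [h4]
    infer_instance
  let U : ℕ → Submodule Rp (LocalizedModule p.primeCompl N) := fun n => (L n).localized p.primeCompl
  have hmk : ∀ n g, g ∈ L n → LocalizedModule.mkLinearMap p.primeCompl N g ∈ U n := fun n g hg =>
    ⟨g, hg, 1, by simp⟩
  have hU : Antitone U := fun i j h => by
    rintro x ⟨g, hg, t, ht⟩
    exact ⟨g, hL h hg, t, ht⟩
  have hrU : r • U 0 ≤ ⊥ := by
    refine Submodule.smul_le.2 fun c hc x hx => (Submodule.mem_bot Rp).2 ?_
    induction hc using Submodule.span_induction with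
    | mem c hc =>
      obtain ⟨a, ha, rfl⟩ := hc
      obtain ⟨g, hg, t, rfl⟩ := hx
      rw [algebraMap_smul, ← IsLocalizedModule.mk'_smul,
        (Submodule.mem_bot R).1 (hJ (Submodule.smul_mem_smul ha hg)), IsLocalizedModule.mk'_zero]
    | zero => exact zero_smul _ _
    | add a b _ _ ha hb => rw [add_smul, ha, hb, add_zero]
    | smul c a _ ha => rw [smul_eq_mul, mul_smul, ha, smul_zero]
  have hfin : Module.length Rp (U 0) ≠ ⊤ := by
    have : Module.Finite Rp (LocalizedModule p.primeCompl N) :=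
      Module.Finite.of_isLocalizedModule p.primeCompl (LocalizedModule.mkLinearMap p.primeCompl N)
    have h := Groth.Ega41Dim.lenQ_ne_top r hrU
    have e : Groth.Ega41Dim.lenQ (U 0) ⊥ = Module.length Rp (U 0) :=
      (Submodule.quotEquivOfEqBot _ (by rw [Submodule.comap_bot, Submodule.ker_subtype])).length_eq
    rwa [e] at h
  have : IsArtinian Rp (U 0) :=
    (isFiniteLength_iff_isNoetherian_isArtinian.1 (Module.length_ne_top_iff.1 hfin)).2
  obtain ⟨n, hn⟩ := IsArtinian.monotone_stabilizes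
    (R := Rp) (M := U 0) ⟨fun k => OrderDual.toDual ((U k).comap (U 0).subtype), fun i j h =>
      Submodule.comap_mono (hU h)⟩
  refine ⟨n, fun k hk => ?_⟩
  have hUk : U k ≤ U (k + 1) := fun x hx => by
    have e : (U k).comap (U 0).subtype = (U (k + 1)).comap (U 0).subtype :=
      OrderDual.toDual.injective ((hn k hk).symm.trans (hn (k + 1) (hk.trans k.le_succ)))
    have h1 : (⟨x, hU (Nat.zero_le k) hx⟩ : U 0) ∈ (U k).comap (U 0).subtype := hx
    rw [e] at h1
    exact h1
  have hone : ∀ g ∈ L k, ∃ s ∉ p, s • g ∈ L (k + 1) := fun g hg => by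
    obtain ⟨g', hg', t, ht⟩ := hUk (hmk k g hg)
    rw [IsLocalizedModule.mk'_eq_iff] at ht
    rw [Submonoid.smul_def, ← map_smul] at ht
    obtain ⟨c, hc⟩ := (IsLocalizedModule.eq_iff_exists p.primeCompl (LocalizedModule.mkLinearMap p.primeCompl N)).1 ht
    refine ⟨(c : R) * (t : R), (c * t).2, ?_⟩
    rw [mul_smul, show (c : R) • (t : R) • g = c • ((t : R) • g) from rfl, ← hc]
    exact Submodule.smul_mem _ _ hg'
  obtain ⟨G, hG⟩ := IsNoetherian.noetherian (L k)
  choose s hs hsg using fun g : G => hone g.1 (hG ▸ Submodule.subset_span g.2)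
  refine ⟨∏ g, s g, fun h => ?_, fun g hg => ?_⟩
  · obtain ⟨g, -, hg⟩ := (hp.1.1.prod_mem_iff).1 h
    exact hs g hg
  · rw [← hG] at hg
    induction hg using Submodule.span_induction with
    | mem g hg =>
      rw [← Finset.mul_prod_erase Finset.univ s (Finset.mem_univ ⟨g, hg⟩), mul_comm, mul_smul]
      exact Submodule.smul_mem _ _ (hsg ⟨g, hg⟩)
    | zero => rw [smul_zero]; exact zero_mem _
    | add a b _ _ ha hb => rw [smul_add]; exact add_mem ha hb
    | smul c a _ ha => rw [smul_comm]; exact Submodule.smul_mem _ _ ha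

end chain

variable {R : Type u} [CommRing R] [IsNoetherianRing R] [IsLocalRing R] [IsAdicComplete (maximalIdeal R) R]
  {M : Type u} [AddCommGroup M] [Module R M] [IsArtinian R M]

omit [IsNoetherianRing R] [IsLocalRing R] [IsArtinian R M] [IsAdicComplete (maximalIdeal R) R] in
theorem iterate_smul {p : ℕ} (φ : M →+ M) (hφ : ∀ (a : R) x, φ (a • x) = a ^ p • φ x) :
    ∀ (n : ℕ) (a : R) (x : M), (⇑φ)^[n] (a • x) = a ^ p ^ n • (⇑φ)^[n] x
  | 0, a, x => by simp
  | n + 1, a, x => by
    rw [Function.iterate_succ_apply', Function.iterate_succ_apply', iterate_smul φ hφ n, hφ, ← pow_mul,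
      ← pow_succ]

theorem nilpotent_of_locallyNilpotent {p : ℕ} (hp : 2 ≤ p) (φ : M →+ M)
    (hφ : ∀ (a : R) x, φ (a • x) = a ^ p • φ x) (hloc : ∀ x, ∃ n, (⇑φ)^[n] x = 0) :
    ∃ n, ∀ x, (⇑φ)^[n] x = 0 := by
  let K : ℕ → Submodule R M := fun n =>
    { carrier := {x | (⇑φ)^[n] x = 0}
      add_mem' := fun {a b} ha hb => by
        show (⇑φ)^[n] (a + b) = 0
        rw [iterate_map_add φ, show (⇑φ)^[n] a = 0 from ha, show (⇑φ)^[n] b = 0 from hb, add_zero]
      zero_mem' := iterate_map_zero φ n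
      smul_mem' := fun c x hx => by
        show (⇑φ)^[n] (c • x) = 0
        rw [iterate_smul φ hφ, show (⇑φ)^[n] x = 0 from hx, smul_zero] }
  have hsucc : ∀ n x, x ∈ K (n + 1) ↔ φ x ∈ K n := fun n x => by
    show (⇑φ)^[n + 1] x = 0 ↔ (⇑φ)^[n] (φ x) = 0
    rw [Function.iterate_succ_apply]
  have hK : Monotone K := monotone_nat_of_le_succ fun n x hx => by
    show (⇑φ)^[n + 1] x = 0
    rw [Function.iterate_succ_apply', show (⇑φ)^[n] x = 0 from hx, map_zero]
  let I : ℕ → Ideal R := fun n => (K n).colon (K (n + 1) : Set M)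
  have hI : ∀ n a, a ∈ I n ↔ ∀ x ∈ K (n + 1), a • x ∈ K n := fun n a => Submodule.mem_colon
  have hrad : ∀ n a, a ^ p ∈ I n → a ∈ I (n + 1) := fun n a ha => by
    rw [hI] at ha ⊢
    intro x hx
    rw [hsucc, hφ]
    exact ha _ ((hsucc _ x).1 hx)
  have hImono : Monotone I := monotone_nat_of_le_succ fun n a ha =>
    hrad n a (Ideal.pow_mem_of_mem _ ha _ (by omega))
  obtain ⟨n₀, hn₀⟩ := (monotone_stabilizes_iff_noetherian (R := R) (M := R)).2 inferInstance ⟨I, hImono⟩
  have hst : ∀ k, n₀ ≤ k → I k = I n₀ := fun k hk => (hn₀ k hk).symm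
  have hB : ∀ a ∈ I n₀, ∀ j x, x ∈ K (n₀ + 1 + j) → a • x ∈ K (n₀ + 1) := by
    intro a ha j
    induction j with
    | zero => exact fun x hx => Submodule.smul_mem _ _ hx
    | succ j ih =>
      intro x hx
      rw [hsucc, hφ, show a ^ p = a ^ (p - 1) * a by rw [← pow_succ, Nat.sub_add_cancel (by omega)], mul_smul]
      exact (hI _ _).1 (Ideal.pow_mem_of_mem _ ha _ (by omega)) _ (ih _ ((hsucc _ x).1 hx))
  have hC : ∀ a ∈ I n₀, ∀ b ∈ I n₀, ∀ x, (b * a) • x ∈ K n₀ := by
    intro a ha b hb x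
    obtain ⟨N, hN⟩ := hloc x
    rw [mul_smul]
    exact (hI _ _).1 hb _ (hB a ha N x (hK (Nat.le_add_left N (n₀ + 1)) hN))
  by_cases htop : I n₀ = ⊤
  · refine ⟨n₀, fun x => ?_⟩
    have := hC 1 (htop ▸ Submodule.mem_top) 1 (htop ▸ Submodule.mem_top) x
    rwa [one_mul, one_smul] at this
  exfalso
  obtain ⟨E, _, _, f, hf⟩ := GrothMatlis.exists_hull R (ResidueField R)
  have : Module.Finite R (M →ₗ[R] E) := (GrothMatlis.duality_artinian hf M).1
  obtain ⟨m, hm, hle⟩ := Ideal.exists_le_maximal _ htop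
  have := hm.isPrime
  obtain ⟨P, hP, -⟩ := Ideal.exists_minimalPrimes_le (I := I n₀ * I n₀) (Ideal.mul_le_left.trans hle)
  let L : ℕ → Submodule R (M →ₗ[R] E) := fun n =>
    { carrier := {g | ∀ x ∈ K (n₀ + n), g x = 0}
      add_mem' := fun {a b} ha hb x hx => by rw [LinearMap.add_apply, ha x hx, hb x hx, add_zero]
      zero_mem' := fun x _ => LinearMap.zero_apply x
      smul_mem' := fun c g hg x hx => by rw [LinearMap.smul_apply, hg x hx, smul_zero] }
  have hL : Antitone L := fun i j h g hg x hx => hg x (hK (Nat.add_le_add_left h n₀) hx)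
  have hJ : (I n₀ * I n₀) • L 0 ≤ ⊥ := by
    refine Submodule.smul_le.2 fun c hc g hg => (Submodule.mem_bot R).2 ?_
    induction hc using Submodule.mul_induction_on' with
    | mem_mul_mem b hb a ha =>
      refine LinearMap.ext fun x => ?_
      rw [LinearMap.smul_apply, ← map_smul, LinearMap.zero_apply]
      exact hg _ (hC a ha b hb x)
    | add a _ b _ ha hb => rw [add_smul, ha, hb, add_zero]
  obtain ⟨n, hn⟩ := exists_smul_le hP L hL hJ
  obtain ⟨s, hs, hsL⟩ := hn n le_rfl
  refine hs ?_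
  have hPI : I n₀ ≤ P := fun a ha =>
    hP.1.1.mem_of_pow_mem 2 (hP.1.2 (by rw [pow_two]; exact Ideal.mul_mem_mul ha ha))
  refine hPI ?_
  rw [← hst (n₀ + n) (Nat.le_add_right _ _), hI]
  intro x hx
  by_contra hne
  obtain ⟨θ, hθ⟩ := GrothMatlis.exists_dual_ne_zero hf (x := Submodule.Quotient.mk (p := K (n₀ + n)) (s • x))
    (fun h => hne ((Submodule.Quotient.mk_eq_zero _).1 h))
  have hg : θ ∘ₗ (K (n₀ + n)).mkQ ∈ L n := fun y hy => by
    rw [LinearMap.comp_apply, Submodule.mkQ_apply, (Submodule.Quotient.mk_eq_zero _).2 hy, map_zero]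
  have h0 := hsL _ hg x hx
  rw [LinearMap.smul_apply, ← map_smul] at h0
  exact hθ h0

end Groth.HSL
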